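import Groth.Prelude.Def_W4c3irrattreebunCvg
import Mathlib.FieldTheory.AlgebraicClosure
import Mathlib.LinearAlgebra.Dimension.Free

/-! Covering gonality does not see the algebraic closure of the base in the field. -/

set_option autoImplicit false

universe u

namespace Groth.Agent.H25Gon

open W4c3irrattreebun

variable {k K : Type u} [Field k] [Field K] [Algebra k K]

/-- A diagram over the algebraic closure gives one over the base. -/
theorem down (e : ℕ) (D : CovDiag.{u} (algebraicClosure k K) K e) :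
    ∃ D' : CovDiag.{u} k K e, Algebra.IsSeparable K D.KC → Algebra.IsSeparable K D'.KC := by
  let ι : k →+* algebraicClosure k K := algebraMap k _
  let _ : Algebra k D.KC := ((algebraMap K D.KC).comp (algebraMap k K)).toAlgebra
  let _ : Algebra k D.KB := ((algebraMap (algebraicClosure k K) D.KB).comp ι).toAlgebra
  have : IsScalarTower k K D.KC := IsScalarTower.of_algebraMap_eq fun _ => rfl
  have : IsScalarTower k D.KB D.KC := IsScalarTower.of_algebraMap_eq fun x => by
    have h1 := @IsScalarTower.algebraMap_apply (algebraicClosure k K) D.KB D.KC _ _ _ D.algkB D.algBC D.algkC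
      D.towerB (ι x)
    have h2 := @IsScalarTower.algebraMap_apply (algebraicClosure k K) K D.KC _ _ _ _ D.algKC D.algkC
      D.towerK (ι x)
    exact h2.symm.trans h1
  exact ⟨{ KC := D.KC, KB := D.KB, t := D.t, transc := D.transc, finrank_eq := D.finrank_eq }, id⟩

/-- A diagram over the base gives one over the algebraic closure of no larger degree. -/
theorem up (e : ℕ) (D : CovDiag.{u} k K e) :
    ∃ (e' : ℕ) (D' : CovDiag.{u} (algebraicClosure k K) K e'), e' ≤ e ∧
      (Algebra.IsSeparable K D.KC → Algebra.IsSeparable K D'.KC) := by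
  let B' := algebraicClosure D.KB D.KC
  let j : algebraicClosure k K →+* D.KC := algebraMap (algebraicClosure k K) D.KC
  have hmem : ∀ x, j x ∈ B' := fun x => by
    rw [mem_algebraicClosure_iff]
    have h1 : IsAlgebraic k (algebraMap K D.KC (x : K)) := (mem_algebraicClosure_iff.1 x.2).algebraMap
    exact h1.extendScalars (R := k) (S := D.KB) (RingHom.injective _)
  letI : Algebra (algebraicClosure k K) B' := (j.codRestrict B' hmem).toAlgebra
  haveI : IsScalarTower (algebraicClosure k K) B' D.KC := IsScalarTower.of_algebraMap_eq fun _ => rfl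
  have ht : Transcendental B' D.t := D.transc.algebraicClosure
  let F := IntermediateField.adjoin D.KB ({D.t} : Set D.KC)
  let M := IntermediateField.adjoin B' ({D.t} : Set D.KC)
  have hle : F ≤ M.restrictScalars D.KB := IntermediateField.adjoin_le_iff.2 fun x hx =>
    IntermediateField.subset_adjoin B' _ hx
  letI : Algebra F M := (RingHom.codRestrict (algebraMap F D.KC) M fun x => hle x.2).toAlgebra
  haveI : IsScalarTower F M D.KC := IsScalarTower.of_algebraMap_eq fun _ => rfl
  haveI : Module.Finite M D.KC := Module.Finite.of_restrictScalars_finite F M D.KC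
  haveI : Module.Finite F M := Module.Finite.of_injective (IsScalarTower.toAlgHom F M D.KC).toLinearMap
    (RingHom.injective _)
  have hdeg : Module.finrank M D.KC ≤ e := by
    have h : Module.finrank F M * Module.finrank M D.KC = e :=
      (Module.finrank_mul_finrank F M D.KC).trans D.finrank_eq
    have h0 : 0 < Module.finrank F M := Module.finrank_pos
    exact le_of_le_of_eq (Nat.le_mul_of_pos_left _ h0) h
  exact ⟨Module.finrank M D.KC,
    { KC := D.KC, KB := B', t := D.t, transc := ht, finrank_eq := rfl }, hdeg, id⟩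

lemma sInf_eq_of_cofinal {A B : Set ℕ} (h1 : ∀ a ∈ A, ∃ b ∈ B, b ≤ a) (h2 : ∀ b ∈ B, ∃ a ∈ A, a ≤ b) :
    sInf A = sInf B := by
  rcases A.eq_empty_or_nonempty with rfl | hA
  · rcases B.eq_empty_or_nonempty with rfl | ⟨b, hb⟩
    · rfl
    · obtain ⟨a, ha, -⟩ := h2 b hb
      exact ha.elim
  · obtain ⟨b₀, hb₀, -⟩ := h1 _ hA.some_mem
    refine le_antisymm ?_ ?_
    · obtain ⟨a, ha, hle⟩ := h2 _ (Nat.sInf_mem ⟨b₀, hb₀⟩)
      exact (Nat.sInf_le ha).trans hle
    · obtain ⟨b, hb, hle⟩ := h1 _ (Nat.sInf_mem hA)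
      exact (Nat.sInf_le hb).trans hle

variable (k K)

theorem cvg_eq : cvg k K = cvg (algebraicClosure k K) K :=
  sInf_eq_of_cofinal
    (fun e ⟨D⟩ => let ⟨e', D', h, _⟩ := up e D; ⟨e', ⟨D'⟩, h⟩)
    (fun e ⟨D⟩ => let ⟨D', _⟩ := down e D; ⟨e, ⟨D'⟩, le_rfl⟩)

theorem scvg_eq : scvg k K = scvg (algebraicClosure k K) K :=
  sInf_eq_of_cofinal
    (fun e ⟨D, hs⟩ => let ⟨e', D', h, h'⟩ := up e D; ⟨e', ⟨D', h' hs⟩, h⟩)
    (fun e ⟨D, hs⟩ => let ⟨D', h'⟩ := down e D; ⟨e, ⟨D', h' hs⟩, le_rfl⟩)

end Groth.Agent.H25Gon
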